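import Groth.Agent.ExtFin7.Sheaf
import Groth.Agent.KFlatLib.Scheme.CohD
import Groth.Agent.H9Misc.WayOut
import Groth.Agent.KFlatLib.PsiC
import Groth.Agent.SiteCmpLib.Devissage
import Groth.Prelude.Def_KLin
import Groth.Prelude.Def_DCoh2
import Mathlib.Algebra.Homology.DerivedCategory.Linear

/-!
# Morphisms between coherent complexes on proper schemes form finite modules
-/

set_option autoImplicit false
set_option linter.style.haveILetI false
set_option linter.unusedSectionVars false
set_option backward.isDefEq.respectTransparency false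
set_option backward.isDefEq.respectTransparency.types false
set_option maxHeartbeats 1000000

universe u

open CategoryTheory CategoryTheory.Limits AlgebraicGeometry Pretriangulated DerivedCategory

attribute [local instance] HasDerivedCategory.standard

noncomputable section

namespace Groth.Agent.ExtFin7

variable {A : Type u} [CommRing A] [IsNoetherianRing A] {X : Scheme.{u}} [X.Over (Spec (CommRingCat.of A))]

local notation "tS" => (DerivedCategory.TStructure.t (C := X.Modules))
local notation "H" => DerivedCategory.homologyFunctor X.Modules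

variable (A) in
/-- All morphism groups `Hom(K, L⟦n⟧)` are finite. -/
def HomFin (K L : DCoh.D X) : Prop := ∀ n : ℤ, Module.Finite A (K ⟶ L⟦n⟧)

theorem homFin_iso {K K' L L' : DCoh.D X} (e₁ : K ≅ K') (e₂ : L ≅ L') (h : HomFin A K L) : HomFin A K' L' :=
  fun n => haveI := h n
    Module.Finite.equiv (Linear.homCongr A e₁ ((shiftFunctor (DCoh.D X) n).mapIso e₂))

theorem homFin_shift_right {K L : DCoh.D X} (m : ℤ) (h : HomFin A K L) : HomFin A K (L⟦m⟧) :=
  fun n => haveI := h (m + n)
    Module.Finite.equiv (Linear.homCongr A (Iso.refl K) ((shiftFunctorAdd (DCoh.D X) m n).app L))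

theorem homFin_shift_left {K L : DCoh.D X} (m : ℤ) (h : HomFin A K L) : HomFin A (K⟦m⟧) L := fun n => by
  haveI := h (n - m)
  let F := (shiftFunctor (DCoh.D X) m).mapLinearMap (R := A) (X := K) (Y := L⟦n - m⟧)
  have hF : Function.Bijective F :=
    ((Functor.FullyFaithful.ofFullyFaithful (shiftFunctor (DCoh.D X) m)).map_bijective K (L⟦n - m⟧))
  haveI : Module.Finite A (K⟦m⟧ ⟶ (L⟦n - m⟧)⟦m⟧) := Module.Finite.equiv (LinearEquiv.ofBijective F hF)
  let G := Linear.homCongr A (Iso.refl (K⟦m⟧)) ((shiftFunctorAdd' (DCoh.D X) (n - m) m n (by omega)).app L).symm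
  haveI : Module.Finite A (K⟦m⟧ ⟶ (shiftFunctor (DCoh.D X) (n - m) ⋙ shiftFunctor (DCoh.D X) m).obj L) := this
  exact Module.Finite.equiv G

theorem homFin_tri_right {K : DCoh.D X} {T : Triangle (DCoh.D X)} (hT : T ∈ distTriang _)
    (h₁ : HomFin A K T.obj₁) (h₃ : HomFin A K T.obj₃) : HomFin A K T.obj₂ := fun n => by
  haveI := h₁ n
  haveI := h₃ n
  let T' := (Triangle.shiftFunctor (DCoh.D X) n).obj T
  have hT' : T' ∈ distTriang _ := Triangle.shift_distinguished _ hT n
  haveI : Module.Finite A (K ⟶ T'.obj₁) := h₁ n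
  haveI : Module.Finite A (K ⟶ T'.obj₃) := h₃ n
  show Module.Finite A (K ⟶ T'.obj₂)
  exact finite_of_exact (Linear.rightComp A K T'.mor₁) (Linear.rightComp A K T'.mor₂) fun x hx => by
    obtain ⟨y, hy⟩ := Triangle.coyoneda_exact₂ T' hT' x hx
    exact ⟨y, hy.symm⟩

theorem homFin_tri_left {L : DCoh.D X} {T : Triangle (DCoh.D X)} (hT : T ∈ distTriang _)
    (h₁ : HomFin A T.obj₁ L) (h₃ : HomFin A T.obj₃ L) : HomFin A T.obj₂ L := fun n => by
  haveI := h₁ n
  haveI := h₃ n
  exact finite_of_exact (Linear.leftComp A (L⟦n⟧) T.mor₂) (Linear.leftComp A (L⟦n⟧) T.mor₁) fun x hx => by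
    obtain ⟨y, hy⟩ := Triangle.yoneda_exact₂ T hT x hx
    exact ⟨y, hy.symm⟩

omit [X.Over (Spec (CommRingCat.of A))] in
/-- Induction over the truncations of a bounded coherent complex. -/
theorem coh_induction (Q : DCoh.D X → Prop) (iso : ∀ {M N}, (M ≅ N) → Q M → Q N)
    (ext : ∀ (T : Triangle (DCoh.D X)), T ∈ distTriang _ → Q T.obj₁ → Q T.obj₃ → Q T.obj₂)
    (single : ∀ (n : ℤ) (M : X.Modules), Coh.IsCoh M → Q ((singleFunctor X.Modules n).obj M))
    (hiso : ∀ {M N : X.Modules}, (M ≅ N) → Coh.IsCoh M → Coh.IsCoh N)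
    (hzero : ∀ Z : X.Modules, IsZero Z → Coh.IsCoh Z)
    (K : DCoh.D X) (a b : ℤ) (ha : K.IsGE a) (hb : K.IsLE b) (hK : DCoh.IsCohD K) : Q K := by
  haveI : ObjectProperty.IsClosedUnderIsomorphisms (fun M : X.Modules => Coh.IsCoh M) := ⟨fun e h => hiso e h⟩
  obtain ⟨k, hk⟩ : ∃ k : ℕ, b ≤ a + k := ⟨(b - a).toNat, by omega⟩
  induction k generalizing K a b with
  | zero =>
    have : K.IsLE a := (tS).isLE_of_le K b a (by omega)
    obtain ⟨M, ⟨e⟩⟩ := exists_iso_singleFunctor_obj_of_isGE_of_isLE K a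
    exact iso e.symm (single a M (hiso
      ((H a).mapIso e ≪≫ (singleFunctorCompHomologyFunctorIso X.Modules a).app M) (hK a)))
  | succ k ih =>
    refine ext _ ((tS).triangleLTGE_distinguished (a + 1) K) ?_ ?_
    · refine ih _ a a (KFlatLib.isGE_truncLT K a (a + 1)) ?_
        (fun i => H9Misc.WayOut.P_truncLT (fun M => Coh.IsCoh M) (hP := hzero) hK _ i) (by omega)
      exact inferInstanceAs ((tS).IsLE (((tS).truncLT (a + 1)).obj K) a)
    · refine ih _ (a + 1) b
        (inferInstanceAs ((tS).IsGE (((tS).truncGE (a + 1)).obj K) (a + 1))) ?_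
        (fun i => H9Misc.WayOut.P_truncGE (fun M => Coh.IsCoh M) (hP := hzero) hK _ i) (by omega)
      exact inferInstanceAs ((tS).IsLE (((tS).truncGE (a + 1)).obj K) b)

variable [IsProper (X ↘ Spec (CommRingCat.of A))]

/-- Two coherent modules. -/
theorem homFin_coh {F G : X.Modules} (hF : Coh.IsCoh F) (hG : Coh.IsCoh G) :
    HomFin A ((singleFunctor X.Modules 0).obj F) ((singleFunctor X.Modules 0).obj G) := fun n => by
  haveI : HasExt.{u} X.Modules := inferInstance
  rcases lt_or_ge n 0 with hn | hn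
  · haveI : ((singleFunctor X.Modules 0).obj F).IsLE 0 := inferInstance
    haveI : ((singleFunctor X.Modules 0).obj G).IsGE 0 := inferInstance
    haveI : (((singleFunctor X.Modules 0).obj G)⟦n⟧).IsGE (-n) := (tS).isGE_shift _ 0 n (-n) (by omega)
    haveI : Subsingleton ((singleFunctor X.Modules 0).obj F ⟶ ((singleFunctor X.Modules 0).obj G)⟦n⟧) :=
      subsingleton_of_forall_eq 0 fun f => (tS).zero_of_isLE_of_isGE f 0 (-n) (by omega) inferInstance inferInstance
    infer_instance
  · lift n to ℕ using hn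
    haveI := finite_ext_coh (A := A) F hF hG n
    exact Module.Finite.equiv (Abelian.Ext.homLinearEquiv (R := A) (X := F) (Y := G) (n := n))

/-- Two bounded coherent complexes. -/
theorem homFin_bounded (hiso : ∀ {M N : X.Modules}, (M ≅ N) → Coh.IsCoh M → Coh.IsCoh N)
    (hzero : ∀ Z : X.Modules, IsZero Z → Coh.IsCoh Z) (K L : DCoh.D X) (a b : ℤ) (_ : K.IsGE a) (_ : K.IsLE b)
    (_ : L.IsGE a) (_ : L.IsLE b) (hK : DCoh.IsCohD K) (hL : DCoh.IsCohD L) : HomFin A K L := by
  refine coh_induction (fun L => HomFin A K L) (fun e => homFin_iso (Iso.refl K) e)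
    (fun T hT => homFin_tri_right hT) (fun n G hG => ?_) hiso hzero L a b ‹_› ‹_› hL
  refine homFin_iso (Iso.refl K) (((singleFunctors X.Modules).shiftIso (-n) n 0 (by omega)).app G) ?_
  exact homFin_shift_right (-n) (coh_induction (fun K => HomFin A K ((singleFunctor X.Modules 0).obj G))
    (fun e => homFin_iso e (Iso.refl _)) (fun T hT => homFin_tri_left hT)
    (fun m F hF => homFin_iso (((singleFunctors X.Modules).shiftIso (-m) m 0 (by omega)).app F) (Iso.refl _)
      (homFin_shift_left (-m) (homFin_coh hF hG))) hiso hzero K a b ‹_› ‹_› hK)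

end Groth.Agent.ExtFin7

namespace Groth.Agent.ExtFin7

variable {A : Type u} [CommRing A] [IsNoetherianRing A] {X : Scheme.{u}} [X.Over (Spec (CommRingCat.of A))]
  [IsProper (X ↘ Spec (CommRingCat.of A))]

local notation "tS" => (DerivedCategory.TStructure.t (C := X.Modules))

/-- Bounded above into bounded below. -/
theorem finite_hom {K L : DCoh.D X} (hK : DCoh.IsCohD K) (b : ℤ) (_ : K.IsLE b) (hL : DCoh.IsCohD L) (a : ℤ)
    (_ : L.IsGE a) : Module.Finite A (K ⟶ L) := by
  haveI : IsLocallyNoetherian X := LocallyOfFiniteType.isLocallyNoetherian (X ↘ Spec (CommRingCat.of A))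
  have hzero : ∀ Z : X.Modules, IsZero Z → Coh.IsCoh Z := fun _ h => KFlatLib.isCoh_of_isZero h
  have hiso : ∀ {M N : X.Modules}, (M ≅ N) → Coh.IsCoh M → Coh.IsCoh N := fun e h => KFlatLib.isCoh_of_iso e h
  haveI : ObjectProperty.IsClosedUnderIsomorphisms (fun M : X.Modules => Coh.IsCoh M) := ⟨fun e h => hiso e h⟩
  let c := max b a + 1
  let K' := ((tS).truncGE a).obj K
  let L' := ((tS).truncLT c).obj L
  haveI hK'a : K'.IsGE a := inferInstanceAs ((tS).IsGE (((tS).truncGE a).obj K) a)
  haveI hK'b : K'.IsLE (max b a) := (tS).isLE_of_le _ b (max b a) (le_max_left b a)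
  haveI hL'a : L'.IsGE a := KFlatLib.isGE_truncLT L a c
  haveI hL'b : L'.IsLE (max b a) :=
    (tS).isLE_of_le (((tS).truncLT c).obj L) (c - 1) (max b a) (by omega)
  have hK' : DCoh.IsCohD K' := fun i => H9Misc.WayOut.P_truncGE (fun M => Coh.IsCoh M) (hP := hzero) hK _ i
  have hL' : DCoh.IsCohD L' := fun i => H9Misc.WayOut.P_truncLT (fun M => Coh.IsCoh M) (hP := hzero) hL _ i
  haveI h0 : Module.Finite A (K' ⟶ L'⟦(0 : ℤ)⟧) :=
    homFin_bounded hiso hzero K' L' a (max b a) hK'a hK'b hL'a hL'b hK' hL' 0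
  haveI : Module.Finite A (K' ⟶ L') :=
    Module.Finite.equiv (Linear.homCongr A (Iso.refl K') ((shiftFunctorZero (DCoh.D X) ℤ).app L'))
  haveI : Module.Finite A (K' ⟶ L) := by
    refine Module.Finite.of_surjective (Linear.rightComp A K' (((tS).truncLTι c).app L)) fun f => ?_
    obtain ⟨g, hg⟩ := Triangle.coyoneda_exact₂ _ ((tS).triangleLTGE_distinguished c L) f
      ((tS).zero_of_isLE_of_isGE _ (max b a) c (by omega) hK'b
        (inferInstanceAs ((tS).IsGE (((tS).truncGE c).obj L) c)))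
    exact ⟨g, hg.symm⟩
  refine Module.Finite.of_surjective (Linear.leftComp A L (((tS).truncGEπ a).app K)) fun f => ?_
  obtain ⟨g, hg⟩ := Triangle.yoneda_exact₂ _ ((tS).triangleLTGE_distinguished a K) f
    ((tS).zero_of_isLE_of_isGE _ (a - 1) a (by omega)
      (inferInstanceAs ((tS).IsLE (((tS).truncLT a).obj K) (a - 1))) ‹_›)
  exact ⟨g, hg.symm⟩

end Groth.Agent.ExtFin7
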