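import Groth.Agent.PerfGen7.Devissage
import Groth.Agent.KFlatLib.Scheme.DQCohLimit

/-!
# Morphisms from perfect objects into far shifts of bounded above objects
-/

set_option linter.style.haveILetI false
set_option backward.isDefEq.respectTransparency false
set_option backward.isDefEq.respectTransparency.types false

universe u

open CategoryTheory CategoryTheory.Limits AlgebraicGeometry TopologicalSpace Pretriangulated Opposite

attribute [local instance] HasDerivedCategory.standard

noncomputable section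

namespace Groth.Agent.ExtFin7

open Groth.Agent.KFlatLib Groth.Agent.PerfGen7

variable {X : Scheme.{u}}

/-- Objects with no morphisms into far positive shifts of `K`. -/
def EvZero (K : DCoh.D X) : ObjectProperty (DCoh.D X) := fun E =>
  ∃ N : ℤ, ∀ i, N ≤ i → ∀ φ : E ⟶ K⟦i⟧, φ = 0

/-- Affine generators. -/
theorem evZero_secObj {K : DCoh.D X} (hK : DCoh.IsQCohD K) (b : ℤ) (hb : K.IsLE b) {V : X.Opens}
    (hV : IsAffineOpen V) : EvZero K (DCoh.inD X (secObj V)) := by
  refine ⟨b + 1, fun i hi φ => (bijH0_of_isQCohD (isQCohD_shift hK i) hV).1 ?_⟩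
  have h : IsZero (DCoh.HD (K⟦i⟧) 0) :=
    (DerivedCategory.isZero_of_isLE K b i (by omega)).of_iso
      (((DerivedCategory.homologyFunctor X.Modules 0).shiftIso i 0 i (by omega)).app K)
  exact h.eq_of_tgt _ _

/-- Perfect objects have no morphisms into far shifts of bounded above quasi-coherent objects. -/
theorem evZero_of_isPerfect [CompactSpace X] [QuasiSeparatedSpace X] {K : DCoh.D X} (hK : DCoh.IsQCohD K)
    (b : ℤ) (hb : K.IsLE b) {E : DCoh.D X} (hE : DCoh.IsPerfect E) : EvZero K E := by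
  let Φ : ObjectProperty (DCoh.D X) := EvZero K
  haveI : Φ.IsClosedUnderIsomorphisms := ⟨fun e ⟨N, hN⟩ => ⟨N, fun i hi φ => by
    rw [← cancel_epi e.hom, comp_zero]; exact hN i hi _⟩⟩
  haveI : Φ.IsTriangulated :=
    { exists_zero := (HasZeroObject.zero (C := DCoh.D X)).elim fun Z hZ =>
        ⟨Z, hZ, 0, fun i _ φ => hZ.eq_of_src φ 0⟩
      isStableUnderShiftBy := fun m => ⟨fun A ⟨N, hN⟩ => ⟨N + m, fun i hi φ => by
        obtain ⟨ψ, hψ⟩ := (shiftFunctor (DCoh.D X) m).map_surjective
          (φ ≫ ((shiftFunctorAdd' (DCoh.D X) (i - m) m i (by omega)).app K).hom)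
        rw [hN (i - m) (by omega) ψ, Functor.map_zero] at hψ
        rw [← cancel_mono ((shiftFunctorAdd' (DCoh.D X) (i - m) m i (by omega)).app K).hom, zero_comp]
        exact hψ.symm⟩⟩
      ext₂' := fun T hT ⟨N₁, h₁⟩ ⟨N₃, h₃⟩ => ObjectProperty.le_isoClosure _ _ ⟨max N₁ N₃, fun i hi φ => by
        obtain ⟨β, hβ⟩ := Triangle.yoneda_exact₂ T hT φ (h₁ i ((le_max_left _ _).trans hi) _)
        rw [hβ, h₃ i ((le_max_right _ _).trans hi) β, comp_zero]⟩ }
  exact perfect_devissage Φ (fun V hV => evZero_secObj hK b hb hV) hE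

end Groth.Agent.ExtFin7
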