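import Groth.Agent.ExtShX.GlobalExt
import Groth.Agent.ExtShX.Affine
import Groth.Agent.PnCoh.Finite.HHLin
import Groth.Agent.S0002

/-!
# Finiteness of global Ext of coherent modules on proper schemes
-/

set_option autoImplicit false
set_option linter.style.haveILetI false
set_option linter.unusedSectionVars false
set_option backward.isDefEq.respectTransparency false
set_option backward.isDefEq.respectTransparency.types false
set_option maxHeartbeats 1000000

universe u

open CategoryTheory CategoryTheory.Limits AlgebraicGeometry TopologicalSpace Opposite Abelian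

noncomputable section

namespace Groth.Agent.ExtFin7

section Alg

variable {A : Type*} [CommRing A] [IsNoetherianRing A]
variable {M N P : Type*} [AddCommGroup M] [AddCommGroup N] [AddCommGroup P] [Module A M] [Module A N] [Module A P]

/-- Finite outside, finite in the middle. -/
theorem finite_of_exact (f : M →ₗ[A] N) (g : N →ₗ[A] P) [Module.Finite A M] [Module.Finite A P]
    (h : ∀ x, g x = 0 → ∃ y, f y = x) : Module.Finite A N := by
  haveI : IsNoetherian A (LinearMap.range f) := isNoetherian_of_isNoetherianRing_of_finite A _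
  haveI : IsNoetherian A (LinearMap.ker g) :=
    isNoetherian_of_le (s := LinearMap.ker g) (t := LinearMap.range f) fun x hx => h x hx
  refine ⟨Submodule.fg_of_fg_map_of_fg_inf_ker g (IsNoetherian.noetherian _) ?_⟩
  rw [top_inf_eq]
  exact Module.Finite.iff_fg.1 inferInstance

/-- A map factoring through a finite one up to kernels has finite range. -/
theorem finite_range_of_ker_le (a : M →ₗ[A] N) (d : M →ₗ[A] P) [Module.Finite A P]
    (h : LinearMap.ker d ≤ LinearMap.ker a) : Module.Finite A (LinearMap.range a) := by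
  haveI : Module.Finite A (LinearMap.range d) := Module.Finite.iff_fg.2 (IsNoetherian.noetherian _)
  haveI : Module.Finite A (M ⧸ LinearMap.ker d) := Module.Finite.equiv d.quotKerEquivRange.symm
  refine Module.Finite.of_surjective ((LinearMap.ker d).liftQ a.rangeRestrict
    (fun x hx => by rw [LinearMap.ker_rangeRestrict]; exact h hx)) ?_
  rintro ⟨_, x, rfl⟩
  exact ⟨Submodule.Quotient.mk x, rfl⟩

end Alg

variable {X : Scheme.{u}} {A : Type u} [CommRing A] [IsNoetherianRing A] [X.Over (Spec (CommRingCat.of A))]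

section SES

variable {S : ShortComplex X.Modules} (hS : S.ShortExact)

include hS in
theorem finite_X₂ (n : ℕ) [Module.Finite A (Coh.HH X S.X₁ n)] [Module.Finite A (Coh.HH X S.X₃ n)] :
    Module.Finite A (Coh.HH X S.X₂ n) :=
  finite_of_exact (Canon.HHlin A S.f n) (Canon.HHlin A S.g n) (ExtShX.GlobalExt.hh_exact₂ hS n)

include hS in
theorem finite_X₃ (n : ℕ) [Module.Finite A (Coh.HH X S.X₂ n)] [Module.Finite A (Coh.HH X S.X₁ (n + 1))] :
    Module.Finite A (Coh.HH X S.X₃ n) :=
  PnCoh.Finite.finite_HH_X₃ A hS n inferInstance inferInstance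

end SES

open ExtShX ExtShX.GlobalExt

variable (F : X.Modules) [ModSite.HasSheafHom (O := X.sheaf) F] [HasExt.{u} X.Modules]
  [HasInjectiveResolutions X.Modules] [EnoughInjectives X.Modules]

variable (A) in
/-- The finiteness hypothesis on the local Ext modules. -/
def Fin' (G : X.Modules) : Prop :=
  (∀ q p, Module.Finite A (Coh.HH X (((SH F).rightDerived (q + 1)).obj G) p)) ∧
    ∀ p, Module.Finite A (Coh.HH X (((SH F).rightDerived 0).obj G) (p + 1))

/-- Ext in positive degrees. -/
theorem finite_ext_succ (i : ℕ) : ∀ G : X.Modules, Fin' A F G → Module.Finite A (Ext.{u} F G (i + 1)) := by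
  obtain ⟨ε, hε⟩ := exists_zero_equiv F (A := A)
  induction i with
  | zero =>
    intro G hG
    let S := SiteBase.effSES G
    have hS : S.ShortExact := SiteBase.effSES_shortExact G
    haveI hI : Injective S.X₂ := SiteBase.injective_effSES G
    haveI := hS.mono_f
    haveI := hS.epi_g
    let L := SESResLib.derivedLES (SH F)
    let R := fun q => (SH F).rightDerived q
    let d := L.δ S hS 0 1 rfl
    let K := kernel d
    let g₀ : (R 0).obj S.X₂ ⟶ K := kernel.lift d ((R 0).map S.g) (L.comp_δ S hS 0 1 rfl)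
    haveI : Mono ((R 0).map S.f) := by
      haveI : Mono ((SH F).map S.f) := inferInstance
      exact ((MorphismProperty.monomorphisms X.Modules).arrow_mk_iso_iff
        (((Functor.mapArrowFunctor _ _).mapIso (SH F).rightDerivedZeroIsoSelf).app (Arrow.mk S.f))).2 ‹_›
    haveI : Epi g₀ := (L.exact₃ S hS 0 1 rfl).epi_kernelLift
    let T₁ : ShortComplex X.Modules := ShortComplex.mk ((R 0).map S.f) g₀ (by
      rw [← cancel_mono (kernel.ι d), Category.assoc, kernel.lift_ι, ← Functor.map_comp, S.zero,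
        Functor.map_zero, zero_comp])
    have hT₁ : T₁.ShortExact :=
      { exact := by
          let φ : T₁ ⟶ ShortComplex.mk ((R 0).map S.f) ((R 0).map S.g)
              (by rw [← Functor.map_comp, S.zero, Functor.map_zero]) :=
            { τ₁ := 𝟙 _, τ₂ := 𝟙 _, τ₃ := kernel.ι d,
              comm₁₂ := (Category.id_comp _).trans (Category.comp_id _).symm
              comm₂₃ := (Category.id_comp _).trans (kernel.lift_ι _ _ _).symm }
          haveI : Epi φ.τ₁ := inferInstanceAs (Epi (𝟙 _))
          haveI : IsIso φ.τ₂ := inferInstanceAs (IsIso (𝟙 _))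
          haveI : Mono φ.τ₃ := inferInstanceAs (Mono (kernel.ι d))
          exact (ShortComplex.exact_iff_of_epi_of_isIso_of_mono φ).2 (L.exact₂ S hS 0)
        mono_f := ‹_›
        epi_g := ‹_› }
    let T₂ : ShortComplex X.Modules := ShortComplex.mk (kernel.ι d) d (kernel.condition d)
    let a : Ext.{u} F S.X₃ 0 →ₗ[A] Ext.{u} F S.X₁ 1 := Ext.postcompOfLinear hS.extClass A F rfl
    have ha : Function.Surjective a := fun z =>
      Ext.covariant_sequence_exact₁ F hS z ((Ext.subsingleton_of_injective _ _ 0).elim _ _) rfl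
    let ι₀ : Coh.HH X K 0 →ₗ[A] Coh.HH X ((R 0).obj S.X₃) 0 := Canon.HHlin A (kernel.ι d) 0
    let φ : Coh.HH X K 0 →ₗ[A] Ext.{u} F S.X₁ 1 := (a.comp (ε S.X₃).symm.toLinearMap).comp ι₀
    haveI : Module.Finite A (Coh.HH X T₁.X₁ (0 + 1)) := hG.2 0
    haveI hφ : Module.Finite A (LinearMap.range φ) := by
      refine finite_range_of_ker_le φ (PnCoh.Finite.deltaLin A hT₁ 0) fun y hy => ?_
      obtain ⟨z, rfl⟩ := PnCoh.Finite.exists_of_deltaLin_eq_zero A hT₁ 0 (LinearMap.mem_ker.1 hy)
      obtain ⟨w, rfl⟩ := (ε S.X₂).surjective z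
      have h2 : (ε S.X₃).symm (ι₀ (Canon.HHlin A g₀ 0 (ε S.X₂ w))) = w.comp (Ext.mk₀ S.g) (add_zero 0) := by
        rw [LinearEquiv.symm_apply_eq, hε]
        exact (hhlin_comp g₀ (kernel.ι d) 0 _).trans
          (congrArg (fun t => Canon.HHlin A t 0 (ε S.X₂ w)) (kernel.lift_ι _ _ _))
      rw [LinearMap.mem_ker]
      show a ((ε S.X₃).symm (ι₀ (Canon.HHlin A g₀ 0 (ε S.X₂ w)))) = 0
      rw [h2]
      show (w.comp (Ext.mk₀ S.g) (add_zero 0)).comp hS.extClass rfl = 0
      rw [Ext.comp_assoc_of_second_deg_zero, hS.comp_extClass, Ext.comp_zero]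
    let b : Ext.{u} F S.X₃ 0 →ₗ[A] Coh.HH X ((R 1).obj S.X₁) 0 :=
      (Canon.HHlin A d 0).comp (ε S.X₃).toLinearMap
    haveI : Module.Finite A (Coh.HH X ((R 1).obj S.X₁) 0) := hG.1 0 0
    haveI hq : Module.Finite A (LinearMap.range ((LinearMap.range φ).mkQ.comp a)) := by
      refine finite_range_of_ker_le _ b fun x hx => ?_
      haveI : Mono T₂.f := inferInstanceAs (Mono (kernel.ι d))
      have hx' : Canon.HHlin A T₂.g 0 (ε S.X₃ x) = 0 := LinearMap.mem_ker.1 hx
      have hT₂e : T₂.Exact := ShortComplex.exact_of_f_is_kernel _ (kernelIsKernel d)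
      haveI : Epi T₂.g := (L.exact₁ S hS 0 1 rfl).epi_f
        (((SH F).isZero_rightDerived_obj_injective_succ 0 _).eq_of_tgt _ _)
      obtain ⟨y, hy⟩ := hh_exact₂ (S := T₂) { exact := hT₂e } (A := A) 0 (ε S.X₃ x) hx'
      rw [LinearMap.mem_ker, LinearMap.comp_apply, Submodule.mkQ_apply, Submodule.Quotient.mk_eq_zero]
      refine ⟨y, ?_⟩
      show a ((ε S.X₃).symm (ι₀ y)) = a x
      rw [show ι₀ y = ε S.X₃ x from hy, LinearEquiv.symm_apply_apply]
    have hsurj : Function.Surjective ((LinearMap.range φ).mkQ.comp a) := fun z => by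
      obtain ⟨w, rfl⟩ := Submodule.mkQ_surjective (LinearMap.range φ) z
      obtain ⟨x, rfl⟩ := ha w
      exact ⟨x, rfl⟩
    rw [LinearMap.range_eq_top.2 hsurj] at hq
    have hq' : Module.Finite A (Ext.{u} F S.X₁ 1 ⧸ LinearMap.range φ) :=
      Module.Finite.equiv (LinearEquiv.ofTop ⊤ rfl)
    exact @Module.Finite.of_submodule_quotient _ _ _ _ _ (LinearMap.range φ) hφ hq'
  | succ i ih =>
    intro G hG
    let S := SiteBase.effSES G
    have hS : S.ShortExact := SiteBase.effSES_shortExact G
    haveI hI : Injective S.X₂ := SiteBase.injective_effSES G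
    haveI := hS.mono_f
    haveI := hS.epi_g
    let L := SESResLib.derivedLES (SH F)
    let R := fun q => (SH F).rightDerived q
    have hI₀ : ∀ q, IsZero ((R (q + 1)).obj S.X₂) := fun q => (SH F).isZero_rightDerived_obj_injective_succ q _
    let d := L.δ S hS 0 1 rfl
    haveI : Epi d := (L.exact₁ S hS 0 1 rfl).epi_f ((hI₀ 0).eq_of_tgt _ _)
    let K := kernel d
    let g₀ : (R 0).obj S.X₂ ⟶ K := kernel.lift d ((R 0).map S.g) (L.comp_δ S hS 0 1 rfl)
    haveI : Mono ((R 0).map S.f) := by
      haveI : Mono ((SH F).map S.f) := inferInstance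
      exact ((MorphismProperty.monomorphisms X.Modules).arrow_mk_iso_iff
        (((Functor.mapArrowFunctor _ _).mapIso (SH F).rightDerivedZeroIsoSelf).app (Arrow.mk S.f))).2 ‹_›
    haveI : Epi g₀ := (L.exact₃ S hS 0 1 rfl).epi_kernelLift
    let T₁ : ShortComplex X.Modules := ShortComplex.mk ((R 0).map S.f) g₀ (by
      rw [← cancel_mono (kernel.ι d), Category.assoc, kernel.lift_ι, ← Functor.map_comp, S.zero,
        Functor.map_zero, zero_comp])
    have hT₁ : T₁.ShortExact :=
      { exact := by
          let φ : T₁ ⟶ ShortComplex.mk ((R 0).map S.f) ((R 0).map S.g)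
              (by rw [← Functor.map_comp, S.zero, Functor.map_zero]) :=
            { τ₁ := 𝟙 _, τ₂ := 𝟙 _, τ₃ := kernel.ι d,
              comm₁₂ := (Category.id_comp _).trans (Category.comp_id _).symm
              comm₂₃ := (Category.id_comp _).trans (kernel.lift_ι _ _ _).symm }
          haveI : Epi φ.τ₁ := inferInstanceAs (Epi (𝟙 _))
          haveI : IsIso φ.τ₂ := inferInstanceAs (IsIso (𝟙 _))
          haveI : Mono φ.τ₃ := inferInstanceAs (Mono (kernel.ι d))
          exact (ShortComplex.exact_iff_of_epi_of_isIso_of_mono φ).2 (L.exact₂ S hS 0)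
        mono_f := ‹_›
        epi_g := ‹_› }
    let T₂ : ShortComplex X.Modules := ShortComplex.mk (kernel.ι d) d (kernel.condition d)
    have hT₂ : T₂.ShortExact := { exact := ShortComplex.exact_of_f_is_kernel _ (kernelIsKernel d) }
    have hI2 : ∀ p, Subsingleton (Coh.HH X T₁.X₂ (p + 1)) := fun p => by
      haveI := subsingleton_HH_sheafHom_injective F S.X₂ p
      exact (hhEquiv (A := A) ((SH F).rightDerivedZeroIsoSelf.app S.X₂) (p + 1)).toEquiv.subsingleton
    have hQ : Fin' A F S.X₃ := by
      refine ⟨fun q p => ?_, fun p => ?_⟩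
      · haveI : Mono (L.δ S hS (q + 1) (q + 1 + 1) rfl) :=
          (L.exact₃ S hS (q + 1) (q + 1 + 1) rfl).mono_g ((hI₀ q).eq_of_src _ _)
        haveI : Epi (L.δ S hS (q + 1) (q + 1 + 1) rfl) :=
          (L.exact₁ S hS (q + 1) (q + 1 + 1) rfl).epi_f ((hI₀ (q + 1)).eq_of_tgt _ _)
        haveI : IsIso (L.δ S hS (q + 1) (q + 1 + 1) rfl) := isIso_of_mono_of_epi _
        haveI : Module.Finite A (Coh.HH X ((R (q + 1 + 1)).obj S.X₁) p) := hG.1 (q + 1) p
        exact Module.Finite.equiv (hhEquiv (A := A) (asIso (L.δ S hS (q + 1) (q + 1 + 1) rfl)) p).symm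
      · haveI := hI2 p
        haveI : Module.Finite A (Coh.HH X T₁.X₁ (p + 1 + 1)) := hG.2 (p + 1)
        haveI : Module.Finite A (Coh.HH X T₂.X₁ (p + 1)) := finite_X₃ hT₁ (p + 1)
        haveI : Module.Finite A (Coh.HH X T₂.X₃ (p + 1)) := hG.1 0 (p + 1)
        exact finite_X₂ hT₂ (p + 1)
    haveI := ih S.X₃ hQ
    exact Module.Finite.of_surjective
      (Ext.postcompOfLinear hS.extClass A F (rfl : i + 1 + 1 = i + 2) : Ext.{u} F S.X₃ (i + 1) →ₗ[A] Ext.{u} F S.X₁ (i + 2))
      fun z => Ext.covariant_sequence_exact₁ F hS z ((Ext.subsingleton_of_injective _ _ (i + 1)).elim _ _) rfl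

omit [ModSite.HasSheafHom (O := X.sheaf) F] [HasInjectiveResolutions X.Modules] [EnoughInjectives X.Modules] in
/-- Ext groups of coherent modules on a proper scheme over a Noetherian ring are finite modules. -/
theorem finite_ext_coh [IsProper (X ↘ Spec (CommRingCat.of A))] {G : X.Modules} (hF : Coh.IsCoh F)
    (hG : Coh.IsCoh G) : ∀ n : ℕ, Module.Finite A (Ext.{u} F G n) := by
  haveI : IsLocallyNoetherian X := LocallyOfFiniteType.isLocallyNoetherian (X ↘ Spec (CommRingCat.of A))
  haveI : ModSite.HasSheafHom (O := X.sheaf) F := ModTensor.hasSheafHom (O := X.sheaf) F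
  haveI : HasInjectiveResolutions X.Modules := inferInstance
  haveI : EnoughInjectives X.Modules := inferInstance
  haveI : HasInjectiveResolutions (ModSite.Mod X.sheaf) := hasInjRes X
  have h : ∀ q p, Module.Finite A (Coh.HH X (((SH F).rightDerived q).obj G) p) := fun q p =>
    S0002.result A X _ (isCoh_extSh hF hG q) p
  intro n
  match n with
  | 0 =>
    obtain ⟨ε, -⟩ := exists_zero_equiv F (A := A)
    haveI := h 0 0
    exact Module.Finite.equiv (ε G).symm
  | i + 1 => exact finite_ext_succ F i G ⟨fun q p => h (q + 1) p, fun p => h 0 (p + 1)⟩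

end Groth.Agent.ExtFin7
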